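import Groth.Agent.GrSyzHilb.Basic
import Mathlib

/-!
# Minimal resolutions over a polynomial ring have length at most the number of variables
-/

set_option autoImplicit false
set_option linter.unusedSectionVars false
universe u

namespace Groth.Agent.GrSyzMore

open MvPolynomial
open scoped Pointwise

variable {k : Type u} [Field k] {r : ℕ}

/-- The ideal of the first `j` variables. -/
noncomputable def idl (k : Type u) [Field k] (r : ℕ) (j : ℕ) : Ideal (MvPolynomial (Fin (r + 1)) k) :=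
  Ideal.span (X '' {i : Fin (r + 1) | (i : ℕ) < j})

theorem idl_succ {j : ℕ} (hj : j < r + 1) : idl k r (j + 1) = idl k r j ⊔ Ideal.span {(X ⟨j, hj⟩ : (MvPolynomial (Fin (r + 1)) k))} := by
  rw [idl, idl, ← Ideal.span_union, ← Set.image_singleton, ← Set.image_union]
  congr 2
  ext i
  show (i : ℕ) < j + 1 ↔ (i : ℕ) < j ∨ i = ⟨j, hj⟩
  rw [Fin.ext_iff]
  show (i : ℕ) < j + 1 ↔ (i : ℕ) < j ∨ (i : ℕ) = j
  omega

theorem idl_zero : idl k r 0 = ⊥ := by
  rw [idl, Ideal.span_eq_bot]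
  rintro _ ⟨i, hi, rfl⟩
  exact absurd hi (Nat.not_lt_zero _)

theorem regular_var {j : ℕ} (hj : j < r + 1) {p : (MvPolynomial (Fin (r + 1)) k)} (h : X (⟨j, hj⟩ : Fin (r + 1)) * p ∈ idl k r j) :
    p ∈ idl k r j := by
  classical
  rw [idl, mem_ideal_span_X_image] at h ⊢
  intro m hm
  obtain ⟨i, hi, hne⟩ := h (Finsupp.single ⟨j, hj⟩ 1 + m) (by
    rw [mem_support_iff, coeff_X_mul]; exact mem_support_iff.1 hm)
  refine ⟨i, hi, ?_⟩
  have hij : (⟨j, hj⟩ : Fin (r + 1)) ≠ i := fun e => by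
    have hi' : (i : ℕ) < j := hi
    rw [← e] at hi'
    exact lt_irrefl _ hi'
  rwa [Finsupp.add_apply, Finsupp.single_eq_of_ne' hij, zero_add] at hne

theorem mem_smul_pi {m : ℕ} (I : Ideal (MvPolynomial (Fin (r + 1)) k)) {v : Fin m → (MvPolynomial (Fin (r + 1)) k)} :
    v ∈ I • (⊤ : Submodule (MvPolynomial (Fin (r + 1)) k) (Fin m → (MvPolynomial (Fin (r + 1)) k))) ↔ ∀ b, v b ∈ I := by
  classical
  refine ⟨fun h b => ?_, fun h => ?_⟩
  · refine Submodule.smul_induction_on (p := fun w : Fin m → (MvPolynomial (Fin (r + 1)) k) => w b ∈ I) h (fun s hs w _ => ?_)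
      fun w w' hw hw' => add_mem hw hw'
    exact I.mul_mem_right _ hs
  · rw [pi_eq_sum_univ v]
    exact sum_mem fun b _ => Submodule.smul_mem_smul (h b) Submodule.mem_top

variable (k r) in
/-- The first `j` variables form a regular sequence on the submodule. -/
def RegVars {m : ℕ} (W : Submodule (MvPolynomial (Fin (r + 1)) k) (Fin m → (MvPolynomial (Fin (r + 1)) k))) (j : ℕ) : Prop :=
  ∀ l (hl : l < r + 1), l < j → ∀ v ∈ W, (X ⟨l, hl⟩ : (MvPolynomial (Fin (r + 1)) k)) • v ∈ idl k r l • W → v ∈ idl k r l • W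

theorem key {V : Type u} [AddCommGroup V] [Module (MvPolynomial (Fin (r + 1)) k) V] {m : ℕ} (p : (Fin m → (MvPolynomial (Fin (r + 1)) k)) →ₗ[(MvPolynomial (Fin (r + 1)) k)] V) {j : ℕ}
    (hp : ∀ l (hl : l < r + 1), l < j → ∀ u, (X ⟨l, hl⟩ : (MvPolynomial (Fin (r + 1)) k)) • p u ∈ idl k r l • LinearMap.range p →
      p u ∈ idl k r l • LinearMap.range p) :
    ∀ l, l ≤ j → l ≤ r + 1 → ∀ v ∈ LinearMap.ker p, v ∈ idl k r l • (⊤ : Submodule (MvPolynomial (Fin (r + 1)) k) (Fin m → (MvPolynomial (Fin (r + 1)) k))) →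
      v ∈ idl k r l • LinearMap.ker p := by
  intro l
  induction l with
  | zero =>
    intro _ _ v _ h
    rw [idl_zero, Submodule.bot_smul] at h ⊢
    exact h
  | succ l ih =>
    intro hl hl' v hv h
    have hlr : l < r + 1 := by omega
    rw [idl_succ hlr, Submodule.sup_smul, Submodule.ideal_span_singleton_smul] at h ⊢
    obtain ⟨v₀, hv₀, w, hw, rfl⟩ := Submodule.mem_sup.1 h
    obtain ⟨u, -, rfl⟩ := (Submodule.mem_smul_pointwise_iff_exists _ _ _).1 hw
    have hmap : (idl k r l • (⊤ : Submodule (MvPolynomial (Fin (r + 1)) k) (Fin m → (MvPolynomial (Fin (r + 1)) k)))).map p = idl k r l • LinearMap.range p := by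
      rw [Submodule.map_smul'', Submodule.map_top]
    have hu : (X ⟨l, hlr⟩ : (MvPolynomial (Fin (r + 1)) k)) • p u ∈ idl k r l • LinearMap.range p := by
      rw [← hmap]
      refine ⟨-v₀, neg_mem hv₀, ?_⟩
      have h0 : p v₀ + p ((X ⟨l, hlr⟩ : (MvPolynomial (Fin (r + 1)) k)) • u) = 0 := by rw [← map_add]; exact hv
      rw [map_neg, ← map_smul]
      exact (neg_eq_of_add_eq_zero_right h0)
    obtain ⟨w', hw', hwu⟩ := hmap.ge (hp l hlr (by omega) u hu)
    have hker : u - w' ∈ LinearMap.ker p := by rw [LinearMap.mem_ker, map_sub, hwu, sub_self]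
    have h2 : v₀ + (X ⟨l, hlr⟩ : (MvPolynomial (Fin (r + 1)) k)) • w' ∈ idl k r l • LinearMap.ker p := by
      refine ih (by omega) (by omega) _ ?_ (add_mem hv₀ (Submodule.smul_mem _ _ hw'))
      have h0 : p (v₀ + (X ⟨l, hlr⟩ : (MvPolynomial (Fin (r + 1)) k)) • u) = 0 := hv
      rw [LinearMap.mem_ker, map_add, map_smul, hwu]
      rwa [map_add, map_smul] at h0
    rw [show v₀ + (X ⟨l, hlr⟩ : (MvPolynomial (Fin (r + 1)) k)) • u = (v₀ + (X ⟨l, hlr⟩ : (MvPolynomial (Fin (r + 1)) k)) • w') + (X ⟨l, hlr⟩ : (MvPolynomial (Fin (r + 1)) k)) • (u - w') by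
      rw [smul_sub]; abel]
    exact add_mem (Submodule.mem_sup_left h2)
      (Submodule.mem_sup_right (Submodule.smul_mem_pointwise_smul _ _ _ hker))

theorem regVars_ker {V : Type u} [AddCommGroup V] [Module (MvPolynomial (Fin (r + 1)) k) V] {m : ℕ} (p : (Fin m → (MvPolynomial (Fin (r + 1)) k)) →ₗ[(MvPolynomial (Fin (r + 1)) k)] V) {j : ℕ}
    (hp : ∀ l (hl : l < r + 1), l < j → ∀ u, (X ⟨l, hl⟩ : (MvPolynomial (Fin (r + 1)) k)) • p u ∈ idl k r l • LinearMap.range p →
      p u ∈ idl k r l • LinearMap.range p) : RegVars k r (LinearMap.ker p) (j + 1) := by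
  intro l hl hlj v hv h
  refine key p hp l (by omega) hl.le v hv ((mem_smul_pi _).2 fun b => regular_var hl ?_)
  have h' := (mem_smul_pi (idl k r l)).1 (Submodule.smul_mono le_rfl le_top h) b
  exact h'

variable {M : Type u} [AddCommGroup M] [Module k M] [Module (MvPolynomial (Fin (r + 1)) k) M]
  {ℳ : ℤ → Submodule k M} [DirectSum.Decomposition ℳ] [SetLike.GradedSMul (GrSyz.stdGr k (Fin (r + 1))) ℳ]
  [IsScalarTower k (MvPolynomial (Fin (r + 1)) k) M] (F : GrSyz.FreeRes (GrSyz.stdGr k (Fin (r + 1))) ℳ)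

theorem regVars_syz : ∀ i, RegVars k r (LinearMap.range (F.dLin i)) (i + 1) := by
  intro i
  induction i with
  | zero =>
    rw [← F.exact_zero]
    exact regVars_ker F.augLin fun l _ hl => absurd hl (Nat.not_lt_zero l)
  | succ i ih =>
    rw [← F.exact_succ i]
    exact regVars_ker (F.dLin i) fun l hl hlj u hu => ih l hl hlj _ ⟨u, rfl⟩ hu

theorem irrel_eq : (GrSyz.irrel (GrSyz.stdGr k (Fin (r + 1)))).toIdeal = idl k r (r + 1) := by
  rw [idl, show {i : Fin (r + 1) | (i : ℕ) < r + 1} = Set.univ from Set.eq_univ_of_forall fun i => i.isLt]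
  refine le_antisymm (fun p hp => ?_) (Ideal.span_le.2 ?_)
  · rw [mem_ideal_span_X_image]
    intro m hm
    by_contra h
    push Not at h
    have hm0 : m = 0 := Finsupp.ext fun i => h i (Set.mem_univ i)
    rw [hm0, mem_support_iff] at hm
    exact hm (GrSyzHilb.irrel_le p hp)
  · rintro _ ⟨i, -, rfl⟩
    exact Ideal.subset_span ⟨1, one_pos, isWeightedHomogeneous_X k (fun _ => (1 : ℤ)) i⟩

variable (hF : F.IsMinimal (GrSyz.irrel (GrSyz.stdGr k (Fin (r + 1)))).toIdeal)

include hF in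
theorem range_le (i : ℕ) : LinearMap.range (F.dLin i) ≤ idl k r (r + 1) • (⊤ : Submodule (MvPolynomial (Fin (r + 1)) k) (Fin (F.rk i) → (MvPolynomial (Fin (r + 1)) k))) := by
  rintro _ ⟨w, rfl⟩
  refine (mem_smul_pi _).2 fun b => ?_
  show (∑ c, F.d i b c * w c) ∈ idl k r (r + 1)
  rw [← irrel_eq]
  exact Submodule.sum_mem _ fun c _ => Ideal.mul_mem_right _ _ (hF i b c)

include hF in
/-- The differential indexed by the number of variables is injective. -/
theorem dLin_injective : LinearMap.ker (F.dLin r) = ⊥ := by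
  set K := LinearMap.ker (F.dLin r) with hK
  set I := idl k r (r + 1) with hI
  have h1 : K ≤ I • (⊤ : Submodule (MvPolynomial (Fin (r + 1)) k) (Fin (F.rk (r + 1)) → (MvPolynomial (Fin (r + 1)) k))) := by
    rw [hK, GrSyz.FreeRes.dLin, F.exact_succ r]; exact range_le F hF (r + 1)
  have h2 : K ≤ I • K := fun w hw =>
    key (F.dLin r) (fun l hl hlj u hu => regVars_syz F r l hl hlj _ ⟨u, rfl⟩ hu) (r + 1) le_rfl le_rfl w hw (h1 hw)
  have h3 : ∀ t : ℕ, K ≤ I ^ t • (⊤ : Submodule (MvPolynomial (Fin (r + 1)) k) (Fin (F.rk (r + 1)) → (MvPolynomial (Fin (r + 1)) k))) := by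
    intro t
    induction t with
    | zero => rw [pow_zero, Ideal.one_eq_top, Submodule.top_smul]; exact le_top
    | succ t ih => rw [pow_succ', Submodule.mul_smul]; exact h2.trans (Submodule.smul_mono le_rfl ih)
  refine (Submodule.eq_bot_iff _).2 fun v hv => funext fun b => ?_
  have hne : I ≠ ⊤ := fun h => by
    have h1' : (1 : (MvPolynomial (Fin (r + 1)) k)) ∈ (GrSyz.irrel (GrSyz.stdGr k (Fin (r + 1)))).toIdeal := by
      rw [irrel_eq, ← hI, h]; trivial
    simpa using GrSyzHilb.irrel_le (1 : (MvPolynomial (Fin (r + 1)) k)) h1'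
  show v b = 0
  rw [← Submodule.mem_bot (MvPolynomial (Fin (r + 1)) k), ← Ideal.iInf_pow_eq_bot_of_isDomain I hne, Submodule.mem_iInf]
  exact fun t => (mem_smul_pi _).1 (h3 t hv) b

include hF in
theorem rk_succ_eq_zero {i : ℕ} (h : LinearMap.ker (F.dLin i) = ⊥) : F.rk (i + 2) = 0 := by
  by_contra hne
  obtain ⟨c, hc⟩ := GrSyzHilb.column_ne_zero F hF (i + 1) (⟨0, Nat.pos_of_ne_zero hne⟩ : Fin (F.rk (i + 2)))
  refine hc ?_
  have hz : F.dLin (i + 1) (Pi.single ⟨0, Nat.pos_of_ne_zero hne⟩ 1) = 0 := by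
    rw [← Submodule.mem_bot (MvPolynomial (Fin (r + 1)) k), ← h, GrSyz.FreeRes.dLin, GrSyz.FreeRes.dLin, F.exact_succ i]
    exact ⟨_, rfl⟩
  have := congrFun hz c
  rwa [GrSyz.FreeRes.dLin, Matrix.mulVecLin_apply, Matrix.mulVec_single_one] at this

include hF in
theorem hasLengthLE : F.HasLengthLE (r + 1) := by
  intro i hi
  obtain ⟨l, rfl⟩ : ∃ l, i = r + 2 + l := ⟨i - (r + 2), by omega⟩
  clear hi
  induction l with
  | zero => exact rk_succ_eq_zero F hF (dLin_injective F hF)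
  | succ l ih =>
    rw [show r + 2 + (l + 1) = (r + 1 + l) + 2 by omega]
    refine rk_succ_eq_zero F hF ((Submodule.eq_bot_iff _).2 fun v _ => funext fun b => ?_)
    haveI : IsEmpty (Fin (F.rk (r + 1 + l + 1))) := by
      rw [show r + 1 + l + 1 = r + 2 + l by omega, ih]; infer_instance
    exact isEmptyElim b

end Groth.Agent.GrSyzMore
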